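import Cfsg.Agent.H622.CT.RankOne
import Cfsg.Agent.H682.CT.LieFit
import Cfsg.Agent.Nodes.RGDClass
import Cfsg.Agent.Lib.Zsigmondy
import Cfsg.Agent.S0243
import Cfsg.Agent.S0245
import Cfsg.Agent.S0246
import Cfsg.Agent.S0280
import Cfsg.Agent.S2086
import Cfsg.Agent.S2089
import Cfsg.Agent.S2092
import Cfsg.Agent.S2093

/-!
# `Fit` for the classical groups `PSL_n(q)`, `PSp_{2m}(q)`, `PSU_n(q)`
-/

set_option autoImplicit false

namespace Cfsg.Agent.H622.CT

open Cfsg Cfsg.Agent.OrdDiv Cfsg.Agent.H682.CT Matrix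

universe u v

/-- the criterion in the form used below: `G` a model with a root group datum of characteristic `r` and a cyclic
multiplier of order `d`; two primes not dividing `q d` (`q` a power of `r`) and dividing the order -/
theorem fit_of_model {S : Type u} [Group S] [Finite S] [IsSimpleGroup S] (hna : ¬ ∀ a b : S, a * b = b * a)
    {G : Type*} [Group G] (e : S ≃* G) {r : ℕ} (hr : r.Prime) (hG : Nodes.RGDChev.HasRGD r G) {d q f : ℕ}
    (hM : HasCyclicSchurMultiplier G d) (hq : q = r ^ f) (hf : f ≠ 0) {p₁ p₂ : ℕ} (hp₁ : p₁.Prime) (hp₂ : p₂.Prime)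
    (hne : p₁ ≠ p₂) (h₁ : ¬ p₁ ∣ q) (h₂ : ¬ p₂ ∣ q) (hm₁ : ¬ p₁ ∣ d) (hm₂ : ¬ p₂ ∣ d)
    (hd₁ : p₁ ∣ Nat.card G) (hd₂ : p₂ ∣ Nat.card G) : Fit.{u, v} S := by
  have hperf := commutator_eq_top hna
  have hperf' : commutator G = ⊤ := by
    have h1 := congrArg (Subgroup.map e.toMonoidHom) hperf
    rw [commutator_def, Subgroup.map_commutator, Subgroup.map_top_of_surjective _ e.surjective] at h1
    rwa [commutator_def]
  have hrq : r ∣ q := by
    rw [hq]
    exact dvd_pow_self r hf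
  have hcard : Nat.card G = Nat.card S := (Nat.card_congr e.toEquiv).symm
  refine fit_of_rgd hna hr (hG.of_equiv e.symm) hp₁ hp₂ hne (fun h => h₁ (h ▸ hrq)) (fun h => h₂ (h ▸ hrq))
    (hcard ▸ hd₁) (hcard ▸ hd₂) ?_ ?_
  · exact (noExt_of_mult hp₁ hperf' hM hm₁).congr e.symm
  · exact (noExt_of_mult hp₂ hperf' hM hm₂).congr e.symm

/-- the characteristic -/
theorem exists_char (F : Type*) [Field F] [Fintype F] : ∃ r f : ℕ, r.Prime ∧ CharP F r ∧ f ≠ 0 ∧
    Fintype.card F = r ^ f := by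
  obtain ⟨r, hchar⟩ := CharP.exists F
  obtain ⟨n, hr, hn⟩ := FiniteField.card F r
  exact ⟨r, n, hr, hchar, n.ne_zero, hn⟩

/-- primitive prime divisors -/
theorem exists_ppd {q n : ℕ} (hq : 2 ≤ q) (hn : 3 ≤ n) (h6 : ¬ (q = 2 ∧ n = 6)) :
    ∃ p : ℕ, p.Prime ∧ (∀ m, p ∣ q ^ m - 1 ↔ n ∣ m) ∧ ¬ p ∣ q := by
  obtain ⟨p, hp, h1, -, h2⟩ := Lib.Zsigmondy.exists_primitive hq (n := n) (by omega) (by omega) h6
  exact ⟨p, hp, h1, h2⟩

/-! ### `PSL_n(q)` -/

section psl

variable {F : Type} [Field F] [Fintype F]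

theorem dvd_card_psl {n : ℕ} (hn : 2 ≤ n) {p i : ℕ} (hp : p.Prime) (h1 : ¬ p ∣ Fintype.card F - 1) (hi : i ≤ n)
    (hi0 : 1 ≤ i) (hd : p ∣ Fintype.card F ^ i - 1) :
    p ∣ Nat.card (ProjectiveSpecialLinearGroup (Fin n) F) := by
  have hq : 1 < Fintype.card F := Fintype.one_lt_card
  have h := S0243.result (F := F) rfl n hn
  have h2 : p ∣ ∏ j : Fin n, (Fintype.card F ^ n - Fintype.card F ^ (j : ℕ)) := by
    refine dvd_trans ?_ (Finset.dvd_prod_of_mem _ (Finset.mem_univ (⟨n - i, by omega⟩ : Fin n)))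
    change p ∣ Fintype.card F ^ n - Fintype.card F ^ (n - i)
    have h3 : Fintype.card F ^ n - Fintype.card F ^ (n - i) =
        Fintype.card F ^ (n - i) * (Fintype.card F ^ i - 1) := by
      rw [Nat.mul_sub, ← pow_add, mul_one, Nat.sub_add_cancel hi]
    rw [h3]
    exact hd.mul_left _
  rw [← h] at h2
  rcases hp.dvd_mul.1 h2 with h3 | h3
  · exact absurd (h3.trans (Nat.gcd_dvd_right _ _)) h1
  · rcases hp.dvd_mul.1 h3 with h4 | h4
    · exact absurd h4 h1
    · exact h4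

/-- **`PSL_n(q)`**, `n ≥ 3`. -/
theorem fit_psl {S : Type u} [Group S] [Finite S] [IsSimpleGroup S] (hna : ¬ ∀ a b : S, a * b = b * a)
    {n : ℕ} (hn : 3 ≤ n) (e : S ≃* ProjectiveSpecialLinearGroup (Fin n) F) : Fit.{u, v} S := by
  obtain ⟨r, f, hr, hchar, hf, hq⟩ := exists_char F
  have : Fact r.Prime := ⟨hr⟩
  obtain ⟨q, hq'⟩ : ∃ q, q = Fintype.card F := ⟨_, rfl⟩
  have hq2 : 2 ≤ q := by
    rw [hq']
    exact Fintype.one_lt_card
  have hcardS : Nat.card S = Nat.card (ProjectiveSpecialLinearGroup (Fin n) F) := Nat.card_congr e.toEquiv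
  have hord := S0243.result (F := F) hq'.symm n (by omega)
  -- the exceptions
  by_cases hexc : (n, q) ∈ ({(2, 4), (2, 9), (3, 2), (3, 4), (4, 2)} : Set (ℕ × ℕ))
  · simp only [Set.mem_insert_iff, Set.mem_singleton_iff, Prod.mk.injEq] at hexc
    rcases hexc with ⟨h, -⟩ | ⟨h, -⟩ | ⟨rfl, h⟩ | ⟨rfl, h⟩ | ⟨rfl, h⟩
    · omega
    · omega
    · rw [h, ← hcardS] at hord
      have h1 : Nat.card S = 168 := by
        have h2 : ∏ i : Fin 3, (2 ^ 3 - 2 ^ (i : ℕ)) = 168 := by decide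
        rw [h2] at hord
        simpa using hord
      exact fit_of_chk hna h1 (p := 3) (by decide +kernel)
    · rw [h, ← hcardS] at hord
      have h1 : Nat.card S = 20160 := by
        have h2 : ∏ i : Fin 3, (4 ^ 3 - 4 ^ (i : ℕ)) = 181440 := by decide
        rw [h2] at hord
        norm_num at hord
        omega
      exact fit_of_chk hna h1 (p := 5) (by decide +kernel)
    · rw [h, ← hcardS] at hord
      have h1 : Nat.card S = 20160 := by
        have h2 : ∏ i : Fin 4, (2 ^ 4 - 2 ^ (i : ℕ)) = 20160 := by decide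
        rw [h2] at hord
        norm_num at hord
        omega
      exact fit_of_chk hna h1 (p := 5) (by decide +kernel)
  have hM := S2086.result (F := F) hq'.symm n (by omega) (by omega) hexc
  have hrgd : Nodes.RGDChev.HasRGD r (ProjectiveSpecialLinearGroup (Fin n) F) := by
    obtain ⟨k, rfl⟩ : ∃ k, n = k + 1 := ⟨n - 1, by omega⟩
    exact Nodes.RGDClass.hasRGD_PSL k
  have key : ∀ {p₁ p₂ : ℕ}, p₁.Prime → p₂.Prime → p₁ ≠ p₂ → ¬ p₁ ∣ q → ¬ p₂ ∣ q → ¬ p₁ ∣ Nat.gcd n (q - 1) →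
      ¬ p₂ ∣ Nat.gcd n (q - 1) → p₁ ∣ Nat.card (ProjectiveSpecialLinearGroup (Fin n) F) →
      p₂ ∣ Nat.card (ProjectiveSpecialLinearGroup (Fin n) F) → Fit.{u, v} S :=
    fun {p₁ p₂} h1 h2 h3 h4 h5 h6 h7 h8 h9 =>
      fit_of_model hna e hr hrgd hM (hq'.trans hq) hf h1 h2 h3 h4 h5 h6 h7 h8 h9
  -- a primitive prime divisor gives a good prime
  have hgood : ∀ i, 3 ≤ i → i ≤ n → ¬ (q = 2 ∧ i = 6) → ∃ p : ℕ, p.Prime ∧ (∀ m, p ∣ q ^ m - 1 ↔ i ∣ m) ∧
      ¬ p ∣ q ∧ ¬ p ∣ Nat.gcd n (q - 1) ∧ p ∣ Nat.card (ProjectiveSpecialLinearGroup (Fin n) F) := by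
    intro i hi hin h6
    obtain ⟨p, hp, h1, h2⟩ := exists_ppd hq2 hi h6
    have h3 : ¬ p ∣ q - 1 := by
      intro h
      have h4 := (h1 1).1 (by rwa [pow_one])
      have := Nat.le_of_dvd one_pos h4
      omega
    refine ⟨p, hp, h1, h2, fun h => h3 (h.trans (Nat.gcd_dvd_right _ _)), ?_⟩
    exact dvd_card_psl (by omega) hp (by rwa [← hq']) hin (by omega) (by
      rw [← hq']
      exact (h1 i).2 dvd_rfl)
  have hpair : ∀ i j, 3 ≤ i → i ≤ n → ¬ (q = 2 ∧ i = 6) → 3 ≤ j → j ≤ n → ¬ (q = 2 ∧ j = 6) → i ≠ j →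
      Fit.{u, v} S := by
    intro i j hi hin hi6 hj hjn hj6 hij
    obtain ⟨p₁, hp₁, h1, h2, h3, h4⟩ := hgood i hi hin hi6
    obtain ⟨p₂, hp₂, h5, h6, h7, h8⟩ := hgood j hj hjn hj6
    refine key hp₁ hp₂ ?_ h2 h6 h3 h7 h4 h8
    rintro rfl
    apply hij
    apply Nat.dvd_antisymm
    · rw [← h1, h5]
    · rw [← h5, h1]
  rcases Nat.lt_or_ge n 4 with hn4 | hn4
  · obtain rfl : n = 3 := by omega
    obtain ⟨p₁, hp₁, h1, h2, h3, h4⟩ := hgood 3 le_rfl le_rfl (by omega)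
    -- the second prime
    by_cases h2q : 2 ∣ q
    · obtain ⟨p₂, hp₂, h5, h6⟩ := exists_odd_prime (n := q + 1) (by omega) (by omega)
      have h7 : ¬ p₂ ∣ q - 1 := by
        intro h
        have h8 : p₂ ∣ q + 1 - (q - 1) := Nat.dvd_sub h6 h
        rw [show q + 1 - (q - 1) = 2 by omega] at h8
        exact h5 ((Nat.prime_dvd_prime_iff_eq hp₂ Nat.prime_two).1 h8)
      have h9 : p₂ ∣ q ^ 2 - 1 := by
        have : q ^ 2 - 1 = (q + 1) * (q - 1) := by
          obtain ⟨k, rfl⟩ : ∃ k, q = k + 1 := ⟨q - 1, by omega⟩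
          rw [Nat.add_sub_cancel]
          have : (k + 1) ^ 2 = (k + 1 + 1) * k + 1 := by ring
          omega
        rw [this]
        exact h6.mul_right _
      refine key hp₁ hp₂ ?_ h2 ?_ h3 (fun h => h7 (h.trans (Nat.gcd_dvd_right _ _))) h4 ?_
      · rintro rfl
        have := Nat.le_of_dvd (by norm_num) ((h1 2).1 h9)
        omega
      · intro h
        have h8 : p₂ ∣ q + 1 - q := Nat.dvd_sub h6 h
        rw [show q + 1 - q = 1 by omega] at h8
        exact hp₂.one_lt.ne' (Nat.dvd_one.1 h8)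
      · exact dvd_card_psl (by omega) hp₂ (by rwa [← hq']) (i := 2) (by omega) (by omega) (by rwa [← hq'])
    · -- the prime two
      have h8 : ¬ 2 ∣ Nat.gcd 3 (q - 1) := fun h => by
        have := h.trans (Nat.gcd_dvd_left 3 (q - 1))
        omega
      have hp2 : p₁ ≠ 2 := by
        rintro rfl
        have h10 := (h1 1).1 (by rw [pow_one]; omega)
        omega
      refine key hp₁ Nat.prime_two hp2 h2 h2q h3 h8 h4 ?_
      have h9 : ∏ i : Fin 3, (q ^ 3 - q ^ (i : ℕ)) = (q - 1) * ((q - 1) * ((q ^ 2 + q + 1) * q ^ 3 * (q ^ 2 - 1))) := by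
        rw [Fin.prod_univ_three]
        obtain ⟨k, rfl⟩ : ∃ k, q = k + 1 := ⟨q - 1, by omega⟩
        have e1 : (k + 1) ^ 3 - (k + 1) ^ ((0 : Fin 3) : ℕ) = k * ((k + 1) ^ 2 + (k + 1) + 1) := by
          rw [Nat.sub_eq_iff_eq_add (Nat.pow_le_pow_right (by omega) (by decide))]
          simp only [Fin.val_zero, pow_zero]
          ring
        have e2 : (k + 1) ^ 3 - (k + 1) ^ ((1 : Fin 3) : ℕ) = (k + 1) * (k * (k + 2)) := by
          rw [Nat.sub_eq_iff_eq_add (Nat.pow_le_pow_right (by omega) (by decide))]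
          simp only [Fin.val_one, pow_one]
          ring
        have e3 : (k + 1) ^ 3 - (k + 1) ^ ((2 : Fin 3) : ℕ) = (k + 1) ^ 2 * k := by
          rw [Nat.sub_eq_iff_eq_add (Nat.pow_le_pow_right (by omega) (by decide))]
          simp only [Fin.val_two]
          ring
        have e4 : (k + 1) ^ 2 - 1 = k * (k + 2) := by
          rw [Nat.sub_eq_iff_eq_add (Nat.one_le_pow _ _ (by omega))]
          ring
        rw [e1, e2, e3, e4, Nat.add_sub_cancel]
        ring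
      have h10 : Nat.gcd 3 (q - 1) * Nat.card (ProjectiveSpecialLinearGroup (Fin 3) F) =
          (q - 1) * ((q ^ 2 + q + 1) * q ^ 3 * (q ^ 2 - 1)) := by
        rw [h9, mul_left_comm] at hord
        exact Nat.eq_of_mul_eq_mul_left (by omega) hord
      have h11 : 2 ∣ Nat.gcd 3 (q - 1) * Nat.card (ProjectiveSpecialLinearGroup (Fin 3) F) := by
        rw [h10]
        exact Dvd.dvd.mul_right (by omega) _
      exact (Nat.prime_two.dvd_mul.1 h11).resolve_left h8
  · by_cases h6 : q = 2 ∧ n = 6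
    · exact hpair 5 4 (by omega) (by omega) (by omega) (by omega) (by omega) (by omega) (by omega)
    by_cases h7 : q = 2 ∧ n = 7
    · exact hpair 7 5 (by omega) (by omega) (by omega) (by omega) (by omega) (by omega) (by omega)
    · exact hpair n (n - 1) (by omega) (by omega) (by omega) (by omega) (by omega) (by omega) (by omega)

end psl

/-! ### `PSp_{2m}(q)` -/

section psp

variable {F : Type} [Field F] [Fintype F]

theorem psp_card {m : ℕ} (hm : 1 ≤ m) : Nat.gcd 2 (Fintype.card F - 1) * Nat.card (PSp m F) =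
    Fintype.card F ^ (m ^ 2) * ∏ i ∈ Finset.range m, (Fintype.card F ^ (2 * (i + 1)) - 1) := by
  have h1 := S0245.result (F := F) rfl m
  have h2 := S0246.result (F := F) rfl m hm
  have h3 := Subgroup.card_eq_card_quotient_mul_card_subgroup
    (Subgroup.center (Matrix.symplecticGroup (Fin m) F))
  rw [h1, h2] at h3
  rw [mul_comm]
  exact h3.symm

theorem dvd_card_psp {m : ℕ} (hm : 1 ≤ m) {p i : ℕ} (hp : p.Prime) (hp2 : p ≠ 2) (hi : i + 1 ≤ m)
    (hd : p ∣ Fintype.card F ^ (2 * (i + 1)) - 1) : p ∣ Nat.card (PSp m F) := by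
  have h := psp_card (F := F) hm
  have h2 : p ∣ Nat.gcd 2 (Fintype.card F - 1) * Nat.card (PSp m F) := by
    rw [h]
    refine Dvd.dvd.mul_left ?_ _
    exact hd.trans (Finset.dvd_prod_of_mem _ (Finset.mem_range.2 (show i < m by omega)))
  refine (hp.dvd_mul.1 h2).resolve_left fun h3 => ?_
  exact hp2 ((Nat.prime_dvd_prime_iff_eq hp Nat.prime_two).1 (h3.trans (Nat.gcd_dvd_left _ _)))

/-- an odd prime divisor of `q ^ 2 + 1` -/
theorem exists_dvd_sq_add_one {q : ℕ} (hq : 2 ≤ q) : ∃ p : ℕ, p.Prime ∧ p ≠ 2 ∧ p ∣ q ^ 2 + 1 := by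
  rcases Nat.even_or_odd' q with ⟨k, rfl | rfl⟩
  · obtain ⟨p, hp, h1, h2⟩ := exists_odd_prime (n := (2 * k) ^ 2 + 1) (by nlinarith) (by
      have : (2 * k) ^ 2 + 1 = 2 * (2 * k ^ 2) + 1 := by ring
      omega)
    exact ⟨p, hp, h1, h2⟩
  · have e : (2 * k + 1) ^ 2 + 1 = 2 * (2 * (k ^ 2 + k) + 1) := by ring
    obtain ⟨p, hp, h1, h2⟩ := exists_odd_prime (n := 2 * (k ^ 2 + k) + 1) (by nlinarith) (by omega)
    exact ⟨p, hp, h1, by rw [e]; exact h2.mul_left 2⟩

/-- an odd prime divisor of `q ^ 2 - 1` -/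
theorem exists_dvd_sq_sub_one {q : ℕ} (hq : 2 ≤ q) (h3 : q ≠ 3) : ∃ p : ℕ, p.Prime ∧ p ≠ 2 ∧ p ∣ q ^ 2 - 1 := by
  have hsq : q ^ 2 - 1 = (q - 1) * (q + 1) := by
    obtain ⟨k, rfl⟩ : ∃ k, q = k + 1 := ⟨q - 1, by omega⟩
    rw [Nat.add_sub_cancel]
    have : (k + 1) ^ 2 = k * (k + 1 + 1) + 1 := by ring
    omega
  rw [hsq]
  by_contra hcon
  push Not at hcon
  have h1 : ¬ ∃ p : ℕ, p.Prime ∧ p ≠ 2 ∧ p ∣ q - 1 := by
    rintro ⟨p, hp, hp2, hd⟩
    exact hcon p hp hp2 (hd.mul_right _)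
  have h2 : ¬ ∃ p : ℕ, p.Prime ∧ p ≠ 2 ∧ p ∣ q + 1 := by
    rintro ⟨p, hp, hp2, hd⟩
    exact hcon p hp hp2 (hd.mul_left _)
  obtain ⟨a, ha⟩ := eq_two_pow (by omega) h1
  obtain ⟨b, hb⟩ := eq_two_pow (by omega) h2
  rcases Nat.lt_or_ge a 2 with h | h
  · interval_cases a
    · have : q = 2 := by omega
      subst this
      rcases Nat.lt_or_ge b 2 with h' | h'
      · interval_cases b <;> omega
      · obtain ⟨c, rfl⟩ : ∃ c, b = c + 2 := ⟨b - 2, by omega⟩
        rw [pow_add] at hb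
        omega
    · omega
  · obtain ⟨c, rfl⟩ : ∃ c, a = c + 2 := ⟨a - 2, by omega⟩
    rcases Nat.lt_or_ge b 2 with h' | h'
    · interval_cases b <;> omega
    · obtain ⟨d, rfl⟩ : ∃ c, b = c + 2 := ⟨b - 2, by omega⟩
      rw [pow_add] at ha hb
      omega

/-- **`PSp_{2m}(q)`**, `m ≥ 2`. -/
theorem fit_psp {S : Type u} [Group S] [Finite S] [IsSimpleGroup S] (hna : ¬ ∀ a b : S, a * b = b * a)
    {m : ℕ} (hm : 2 ≤ m) (hm2 : m = 2 → 3 ≤ Fintype.card F) (e : S ≃* PSp m F) : Fit.{u, v} S := by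
  obtain ⟨r, f, hr, hchar, hf, hq⟩ := exists_char F
  have : Fact r.Prime := ⟨hr⟩
  obtain ⟨q, hq'⟩ : ∃ q, q = Fintype.card F := ⟨_, rfl⟩
  have hq2 : 2 ≤ q := by
    rw [hq']
    exact Fintype.one_lt_card
  rw [← hq'] at hm2
  have hcardS : Nat.card S = Nat.card (PSp m F) := Nat.card_congr e.toEquiv
  have hord := psp_card (F := F) (m := m) (by omega)
  rw [← hq'] at hord
  obtain ⟨d, hM, hd⟩ : ∃ d, HasCyclicSchurMultiplier (PSp m F) d ∧ d ∣ 2 := by
    by_cases h : m = 3 ∧ q = 2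
    · obtain ⟨rfl, h2⟩ := h
      exact ⟨2, S2093.result (hq'.symm.trans h2), dvd_rfl⟩
    · exact ⟨_, S2092.result hq'.symm m hm hm2 h, Nat.gcd_dvd_left _ _⟩
  have hrgd : Nodes.RGDChev.HasRGD r (PSp m F) := Nodes.WittInst.hasRGD_PSp (by omega)
  have key : ∀ {p₁ p₂ : ℕ}, p₁.Prime → p₂.Prime → p₁ ≠ p₂ → p₁ ≠ 2 → p₂ ≠ 2 → ¬ p₁ ∣ q → ¬ p₂ ∣ q →
      p₁ ∣ Nat.card (PSp m F) → p₂ ∣ Nat.card (PSp m F) → Fit.{u, v} S :=
    fun {p₁ p₂} h1 h2 h3 h4 h5 h6 h7 h8 h9 =>
      fit_of_model hna e hr hrgd hM (hq'.trans hq) hf h1 h2 h3 h6 h7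
        (fun h => h4 ((Nat.prime_dvd_prime_iff_eq h1 Nat.prime_two).1 (h.trans hd)))
        (fun h => h5 ((Nat.prime_dvd_prime_iff_eq h2 Nat.prime_two).1 (h.trans hd))) h8 h9
  obtain ⟨p₁, hp₁, h1, h2⟩ := exists_dvd_sq_add_one hq2
  have h3 : ¬ p₁ ∣ q := fun h => by
    have h4 : p₁ ∣ q ^ 2 := dvd_pow h (by norm_num)
    exact hp₁.one_lt.ne' (Nat.dvd_one.1 ((Nat.dvd_add_right h4).1 h2))
  have h4 : p₁ ∣ Nat.card (PSp m F) := by
    refine dvd_card_psp (by omega) hp₁ h1 (i := 1) (by omega) ?_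
    rw [← hq']
    have : q ^ (2 * (1 + 1)) - 1 = (q ^ 2 + 1) * (q ^ 2 - 1) := by
      have hpos : 1 ≤ q ^ 2 := Nat.one_le_pow _ _ (by omega)
      obtain ⟨k, hk⟩ : ∃ k, q ^ 2 = k + 1 := ⟨q ^ 2 - 1, by omega⟩
      rw [show q ^ (2 * (1 + 1)) = (q ^ 2) ^ 2 by ring, hk, Nat.add_sub_cancel]
      have : (k + 1) ^ 2 = (k + 1 + 1) * k + 1 := by ring
      omega
    rw [this]
    exact h2.mul_right _
  by_cases hq3 : q = 3
  · rcases Nat.lt_or_ge m 3 with hm3 | hm3
    · obtain rfl : m = 2 := by omega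
      rw [hq3, ← hcardS] at hord
      have h5 : Nat.card S = 25920 := by
        simp only [Finset.prod_range_succ, Finset.prod_range_zero] at hord
        norm_num at hord
        omega
      exact fit_of_chk hna h5 (p := 5) (by decide +kernel)
    · rw [hq3] at h2
      have h5 : p₁ = 5 := by
        have h6 : p₁ ∣ 2 * 5 := by simpa using h2
        rcases hp₁.dvd_mul.1 h6 with h7 | h7
        · exact absurd ((Nat.prime_dvd_prime_iff_eq hp₁ Nat.prime_two).1 h7) h1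
        · exact (Nat.prime_dvd_prime_iff_eq hp₁ (by norm_num)).1 h7
      refine key hp₁ (p₂ := 7) (by norm_num) (by omega) h1 (by norm_num) h3 (by rw [hq3]; norm_num) h4 ?_
      refine dvd_card_psp (by omega) (by norm_num) (by norm_num) (i := 2) (by omega) ?_
      rw [← hq', hq3]
      norm_num
  · obtain ⟨p₂, hp₂, h5, h6⟩ := exists_dvd_sq_sub_one hq2 hq3
    have hpos : 1 ≤ q ^ 2 := Nat.one_le_pow _ _ (by omega)
    refine key hp₁ hp₂ ?_ h1 h5 h3 ?_ h4 ?_
    · rintro rfl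
      have h7 : p₁ ∣ q ^ 2 + 1 - (q ^ 2 - 1) := Nat.dvd_sub h2 h6
      rw [show q ^ 2 + 1 - (q ^ 2 - 1) = 2 by omega] at h7
      exact h1 ((Nat.prime_dvd_prime_iff_eq hp₁ Nat.prime_two).1 h7)
    · intro h
      have h7 : p₂ ∣ q ^ 2 - (q ^ 2 - 1) := Nat.dvd_sub (dvd_pow h (by norm_num)) h6
      rw [show q ^ 2 - (q ^ 2 - 1) = 1 by omega] at h7
      exact hp₂.one_lt.ne' (Nat.dvd_one.1 h7)
    · refine dvd_card_psp (by omega) hp₂ h5 (i := 0) (by omega) ?_
      rw [← hq']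
      simpa using h6

end psp

/-! ### `PSU_n(q)` -/

section psu

variable {F : Type} [Field F] [Fintype F] {q : ℕ}

theorem dvd_card_psu (hF : Fintype.card F = q ^ 2) {n : ℕ} (hn : 2 ≤ n) {p i : ℕ} (hp : p.Prime) (h1 : ¬ p ∣ q + 1)
    (hi : i < n) (hd : p ∣ if Even i then q ^ (i + 1) + 1 else q ^ (i + 1) - 1) :
    p ∣ Nat.card (PSU n F q) := by
  have h := S0280.result hF n (by omega)
  have h2 : p ∣ Nat.gcd n (q + 1) * ((q + 1) * Nat.card (PSU n F q)) := by
    rw [h]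
    refine Dvd.dvd.mul_left ?_ _
    exact hd.trans (Finset.dvd_prod_of_mem _ (Finset.mem_range.2 hi))
  rcases hp.dvd_mul.1 h2 with h3 | h3
  · exact absurd (h3.trans (Nat.gcd_dvd_right _ _)) h1
  · rcases hp.dvd_mul.1 h3 with h4 | h4
    · exact absurd h4 h1
    · exact h4

/-- **`PSU_n(q)`**, `n ≥ 3`. -/
theorem fit_psu {S : Type u} [Group S] [Finite S] [IsSimpleGroup S] (hna : ¬ ∀ a b : S, a * b = b * a)
    (hF : Fintype.card F = q ^ 2) {n : ℕ} (hn : 3 ≤ n) (h32 : ¬ (n = 3 ∧ q = 2)) (e : S ≃* PSU n F q) :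
    Fit.{u, v} S := by
  obtain ⟨r, f, hr, hchar, hf, hq⟩ := exists_char F
  have : Fact r.Prime := ⟨hr⟩
  have hq2 : 2 ≤ q := by
    have h1 : 1 < Fintype.card F := Fintype.one_lt_card
    rw [hF] at h1
    by_contra h2
    have : q = 0 ∨ q = 1 := by omega
    rcases this with rfl | rfl <;> simp at h1
  have hrgd : Nodes.RGDChev.HasRGD r (PSU n F q) := Nodes.WittInst.hasRGD_PSU hF hn
  have hcardS : Nat.card S = Nat.card (PSU n F q) := Nat.card_congr e.toEquiv
  have hord := S0280.result hF n (by omega)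
  by_cases hexc : (n, q) ∈ ({(4, 2), (4, 3), (6, 2)} : Set (ℕ × ℕ))
  · simp only [Set.mem_insert_iff, Set.mem_singleton_iff, Prod.mk.injEq] at hexc
    rcases hexc with ⟨rfl, rfl⟩ | ⟨rfl, rfl⟩ | ⟨rfl, rfl⟩
    · rw [← hcardS] at hord
      have h1 : Nat.card S = 25920 := by
        have h2 : ∏ i ∈ Finset.range 4, (if Even i then 2 ^ (i + 1) + 1 else 2 ^ (i + 1) - 1) = 1215 := by decide
        rw [h2] at hord
        norm_num at hord
        omega
      exact fit_of_chk hna h1 (p := 5) (by decide +kernel)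
    · rw [← hcardS] at hord
      have h1 : Nat.card S = 3265920 := by
        have h2 : ∏ i ∈ Finset.range 4, (if Even i then 3 ^ (i + 1) + 1 else 3 ^ (i + 1) - 1) = 71680 := by decide
        rw [h2] at hord
        norm_num at hord
        omega
      exact fit_of_chk hna h1 (p := 5) (by decide +kernel)
    · rw [← hcardS] at hord
      have h1 : Nat.card S = 9196830720 := by
        have h2 : ∏ i ∈ Finset.range 6, (if Even i then 2 ^ (i + 1) + 1 else 2 ^ (i + 1) - 1) = 2525985 := by decide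
        rw [h2] at hord
        norm_num at hord
        omega
      exact fit_of_chk hna h1 (p := 5) (by decide +kernel)
  have hM := S2089.result n q hF hn h32 hexc
  have key : ∀ {p₁ p₂ : ℕ}, p₁.Prime → p₂.Prime → p₁ ≠ p₂ → ¬ p₁ ∣ q → ¬ p₂ ∣ q → ¬ p₁ ∣ Nat.gcd n (q + 1) →
      ¬ p₂ ∣ Nat.gcd n (q + 1) → p₁ ∣ Nat.card (PSU n F q) → p₂ ∣ Nat.card (PSU n F q) → Fit.{u, v} S := by
    intro p₁ p₂ h1 h2 h3 h4 h5 h6 h7 h8 h9
    refine fit_of_model hna e hr hrgd hM (q := q ^ 2) (hF.symm.trans hq) hf h1 h2 h3 (fun h => ?_) (fun h => ?_)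
      h6 h7 h8 h9
    · exact h4 (h1.dvd_of_dvd_pow h)
    · exact h5 (h2.dvd_of_dvd_pow h)
  have hndq : ∀ p : ℕ, p.Prime → p ∣ q + 1 → ¬ p ∣ q := fun p hp h h' =>
    hp.one_lt.ne' (Nat.dvd_one.1 ((Nat.dvd_add_right h').1 h))
  -- primitive prime divisor of `q ^ 6 - 1`
  have h6 : q ≠ 2 → ∃ p : ℕ, p.Prime ∧ ¬ p ∣ q ∧ ¬ p ∣ q + 1 ∧ p ∣ Nat.card (PSU n F q) ∧
      (∀ k, p ∣ q ^ k - 1 ↔ 6 ∣ k) := by
    intro h
    obtain ⟨p, hp, h1, h2⟩ := exists_ppd hq2 (n := 6) (by norm_num) (by omega)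
    have h3 : ¬ p ∣ q + 1 := by
      intro h3
      have h4 : p ∣ q ^ 2 - 1 := by
        have : q ^ 2 - 1 = (q + 1) * (q - 1) := by
          obtain ⟨k, rfl⟩ : ∃ k, q = k + 1 := ⟨q - 1, by omega⟩
          rw [Nat.add_sub_cancel]
          have : (k + 1) ^ 2 = (k + 1 + 1) * k + 1 := by ring
          omega
        rw [this]
        exact h3.mul_right _
      have := Nat.le_of_dvd (by norm_num) ((h1 2).1 h4)
      omega
    have h4 : p ∣ q ^ 3 + 1 := by
      have h5 : p ∣ q ^ 6 - 1 := (h1 6).2 dvd_rfl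
      have h7 : q ^ 6 - 1 = (q ^ 3 - 1) * (q ^ 3 + 1) := by
        obtain ⟨k, hk⟩ : ∃ k, q ^ 3 = k + 1 := ⟨q ^ 3 - 1, by
          have : 1 ≤ q ^ 3 := Nat.one_le_pow _ _ (by omega)
          omega⟩
        rw [show q ^ 6 = (q ^ 3) ^ 2 by ring, hk, Nat.add_sub_cancel]
        have : (k + 1) ^ 2 = k * (k + 1 + 1) + 1 := by ring
        omega
      rw [h7] at h5
      refine (hp.dvd_mul.1 h5).resolve_left fun h8 => ?_
      have := Nat.le_of_dvd (by norm_num) ((h1 3).1 h8)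
      omega
    exact ⟨p, hp, h2, h3, dvd_card_psu hF (by omega) hp h3 (i := 2) (by omega) (by simpa using h4), h1⟩
  rcases Nat.lt_or_ge n 4 with hn4 | hn4
  · obtain rfl : n = 3 := by omega
    obtain ⟨p₁, hp₁, h1, h2, h3, h4⟩ := h6 (by omega)
    by_cases h2q : 2 ∣ q
    · obtain ⟨p₂, hp₂, h5, h7⟩ := exists_odd_prime (n := q - 1) (by omega) (by omega)
      have h8 : ¬ p₂ ∣ q + 1 := by
        intro h
        have h9 : p₂ ∣ q + 1 - (q - 1) := Nat.dvd_sub h h7
        rw [show q + 1 - (q - 1) = 2 by omega] at h9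
        exact h5 ((Nat.prime_dvd_prime_iff_eq hp₂ Nat.prime_two).1 h9)
      refine key hp₁ hp₂ ?_ h1 ?_ (fun h => h2 (h.trans (Nat.gcd_dvd_right _ _)))
        (fun h => h8 (h.trans (Nat.gcd_dvd_right _ _))) h3 ?_
      · rintro rfl
        have := Nat.le_of_dvd (by norm_num) ((h4 1).1 (by rwa [pow_one]))
        omega
      · intro h
        have h9 : p₂ ∣ q - (q - 1) := Nat.dvd_sub h h7
        rw [show q - (q - 1) = 1 by omega] at h9
        exact hp₂.one_lt.ne' (Nat.dvd_one.1 h9)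
      · refine dvd_card_psu hF (by omega) hp₂ h8 (i := 1) (by omega) ?_
        have : q ^ 2 - 1 = (q + 1) * (q - 1) := by
          obtain ⟨k, rfl⟩ : ∃ k, q = k + 1 := ⟨q - 1, by omega⟩
          rw [Nat.add_sub_cancel]
          have : (k + 1) ^ 2 = (k + 1 + 1) * k + 1 := by ring
          omega
        rw [if_neg (by decide), show 1 + 1 = 2 from rfl, this]
        exact h7.mul_left _
    · have hp2 : p₁ ≠ 2 := by
        rintro rfl
        have h10 := (h4 1).1 (by rw [pow_one]; omega)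
        omega
      have h8 : ¬ 2 ∣ Nat.gcd 3 (q + 1) := fun h => by
        have := h.trans (Nat.gcd_dvd_left 3 (q + 1))
        omega
      refine key hp₁ Nat.prime_two hp2 h1 h2q (fun h => h2 (h.trans (Nat.gcd_dvd_right _ _))) h8 h3 ?_
      have h9 : ∏ i ∈ Finset.range 3, (if Even i then q ^ (i + 1) + 1 else q ^ (i + 1) - 1) =
          (q + 1) * ((q ^ 2 - 1) * (q ^ 3 + 1)) := by
        rw [Finset.prod_range_succ, Finset.prod_range_succ, Finset.prod_range_succ, Finset.prod_range_zero,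
          if_pos (by decide), if_neg (by decide), if_pos (by decide)]
        simp only [zero_add, pow_one, one_mul]
        rw [mul_assoc]
      have h10 : Nat.gcd 3 (q + 1) * Nat.card (PSU 3 F q) = q ^ 3 * ((q ^ 2 - 1) * (q ^ 3 + 1)) := by
        rw [h9, mul_left_comm, mul_left_comm (q ^ (3 * (3 - 1) / 2))] at hord
        exact Nat.eq_of_mul_eq_mul_left (by omega) hord
      have h11 : 2 ∣ Nat.gcd 3 (q + 1) * Nat.card (PSU 3 F q) := by
        rw [h10]
        refine Dvd.dvd.mul_left (Dvd.dvd.mul_left ?_ _) _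
        have h12 : Odd (q ^ 3) := (Nat.not_even_iff_odd.1 (fun h => h2q (even_iff_two_dvd.1 h))).pow
        obtain ⟨k, hk⟩ := h12
        omega
      exact (Nat.prime_two.dvd_mul.1 h11).resolve_left h8
  · by_cases hq2' : q = 2
    · have hn5 : 5 ≤ n := by
        by_contra h
        have : n = 4 := by omega
        exact hexc (by simp [this, hq2'])
      refine key (p₁ := 5) (p₂ := 11) (by norm_num) (by norm_num) (by norm_num) (by rw [hq2']; norm_num)
        (by rw [hq2']; norm_num) (fun h => ?_) (fun h => ?_) ?_ ?_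
      · have h1 := h.trans (Nat.gcd_dvd_right n (q + 1))
        rw [hq2'] at h1
        norm_num at h1
      · have h1 := h.trans (Nat.gcd_dvd_right n (q + 1))
        rw [hq2'] at h1
        norm_num at h1
      · refine dvd_card_psu hF (by omega) (by norm_num) (by rw [hq2']; norm_num) (i := 3) (by omega) ?_
        rw [if_neg (by decide), hq2']
        norm_num
      · refine dvd_card_psu hF (by omega) (by norm_num) (by rw [hq2']; norm_num) (i := 4) (by omega) ?_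
        rw [if_pos (by decide), hq2']
        norm_num
    · obtain ⟨p₁, hp₁, h1, h2, h3, h4⟩ := h6 hq2'
      obtain ⟨p₂, hp₂, h5, h7⟩ := exists_ppd hq2 (n := 4) (by norm_num) (by omega)
      have h8 : ¬ p₂ ∣ q + 1 := by
        intro h
        have h9 : p₂ ∣ q ^ 2 - 1 := by
          have : q ^ 2 - 1 = (q + 1) * (q - 1) := by
            obtain ⟨k, rfl⟩ : ∃ k, q = k + 1 := ⟨q - 1, by omega⟩
            rw [Nat.add_sub_cancel]
            have : (k + 1) ^ 2 = (k + 1 + 1) * k + 1 := by ring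
            omega
          rw [this]
          exact h.mul_right _
        have := Nat.le_of_dvd (by norm_num) ((h5 2).1 h9)
        omega
      refine key hp₁ hp₂ ?_ h1 h7 (fun h => h2 (h.trans (Nat.gcd_dvd_right _ _)))
        (fun h => h8 (h.trans (Nat.gcd_dvd_right _ _))) h3 ?_
      · rintro rfl
        have h9 : 6 ∣ 4 := (h4 4).1 ((h5 4).2 dvd_rfl)
        omega
      · refine dvd_card_psu hF (by omega) hp₂ h8 (i := 3) (by omega) ?_
        rw [if_neg (by decide)]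
        exact (h5 4).2 dvd_rfl

end psu

end Cfsg.Agent.H622.CT
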