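import Cfsg.Agent.H682.CT.Crit
import Cfsg.Agent.OrdDiv.Main

/-!
# `Fit` for the alternating groups, the sporadic groups and the Tits group
-/

set_option autoImplicit false

namespace Cfsg.Agent.H622.CT

open Cfsg Cfsg.Agent.OrdDiv Cfsg.Agent.H682.CT

universe u v

/-- A prime divisor `p` of `|S|` with `p² ∤ |S|` and `|S| ∤ p!`. -/
theorem fit_of_order {S : Type u} [Group S] [Finite S] [IsSimpleGroup S] (hna : ¬ ∀ a b : S, a * b = b * a)
    {p : ℕ} (hp : p.Prime) (hd : p ∣ Nat.card S) (hd2 : ¬ p ^ 2 ∣ Nat.card S)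
    (h : ¬ Nat.card S ∣ p.factorial) : Fit.{u, v} S := by
  have h1 : (Nat.card S).factorization p = 1 := by
    have h2 := (hp.dvd_iff_one_le_factorization Nat.card_pos.ne').1 hd
    have h3 := mt (hp.pow_dvd_iff_le_factorization (k := 2) Nat.card_pos.ne').2 hd2
    omega
  refine fit_of_not_dvd hna hp hd (cyclic_of_factorization_le_one hp h1.le) ?_
  rwa [h1, pow_one]

/-- decidable test -/
def chk (p N : ℕ) : Bool :=
  isPrimeB p && N % p == 0 && N % (p ^ 2) != 0 && p.factorial % N != 0

theorem fit_of_chk {S : Type u} [Group S] [Finite S] [IsSimpleGroup S] (hna : ¬ ∀ a b : S, a * b = b * a)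
    {p N : ℕ} (hN : Nat.card S = N) (h : chk p N = true) : Fit.{u, v} S := by
  unfold chk at h
  simp only [Bool.and_eq_true, beq_iff_eq, bne_iff_ne, ne_eq] at h
  obtain ⟨⟨⟨h1, h2⟩, h3⟩, h4⟩ := h
  refine fit_of_order hna (prime_of h1) ?_ ?_ ?_
  · rw [hN]
    exact Nat.dvd_of_mod_eq_zero h2
  · rw [hN]
    exact fun h => h3 (Nat.mod_eq_zero_of_dvd h)
  · rw [hN]
    exact fun h => h4 (Nat.mod_eq_zero_of_dvd h)

theorem spor_chk : ∀ x ∈ OrdDiv.spor, ∃ p, chk p x.2 = true := by
  intro x hx
  simp only [OrdDiv.spor, List.mem_cons, List.not_mem_nil, or_false] at hx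
  rcases hx with rfl | rfl | rfl | rfl | rfl | rfl | rfl | rfl | rfl | rfl | rfl | rfl | rfl | rfl | rfl | rfl | rfl |
    rfl | rfl | rfl | rfl | rfl | rfl | rfl | rfl | rfl | rfl
  · exact ⟨13, by decide +kernel⟩
  · exact ⟨5, by decide +kernel⟩
  · exact ⟨5, by decide +kernel⟩
  · exact ⟨5, by decide +kernel⟩
  · exact ⟨5, by decide +kernel⟩
  · exact ⟨5, by decide +kernel⟩
  · exact ⟨5, by decide +kernel⟩
  · exact ⟨7, by decide +kernel⟩
  · exact ⟨5, by decide +kernel⟩
  · exact ⟨5, by decide +kernel⟩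
  · exact ⟨11, by decide +kernel⟩
  · exact ⟨7, by decide +kernel⟩
  · exact ⟨7, by decide +kernel⟩
  · exact ⟨7, by decide +kernel⟩
  · exact ⟨7, by decide +kernel⟩
  · exact ⟨7, by decide +kernel⟩
  · exact ⟨17, by decide +kernel⟩
  · exact ⟨7, by decide +kernel⟩
  · exact ⟨5, by decide +kernel⟩
  · exact ⟨7, by decide +kernel⟩
  · exact ⟨7, by decide +kernel⟩
  · exact ⟨7, by decide +kernel⟩
  · exact ⟨11, by decide +kernel⟩
  · exact ⟨7, by decide +kernel⟩
  · exact ⟨13, by decide +kernel⟩
  · exact ⟨11, by decide +kernel⟩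
  · exact ⟨17, by decide +kernel⟩

/-- **Sporadic groups and the Tits group**, from the table of the orders. -/
theorem fit_of_spor (T : OrderTable.{u}) {S : Type u} [Group S] [Finite S] [IsSimpleGroup S]
    (hna : ¬ ∀ a b : S, a * b = b * a) {g : Grp} (hg : g ∈ spor.map (fun x => x.1)) (hr : Real g S) :
    Fit.{u, v} S := by
  obtain ⟨x, hx, rfl⟩ := List.mem_map.1 hg
  obtain ⟨p, hp⟩ := spor_chk x hx
  exact fit_of_chk hna (T.spor S x hx hr) hp

/-- the Tits group -/
theorem fit_tits (T : OrderTable.{u}) {S : Type u} [Group S] [Finite S] [IsSimpleGroup S]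
    (hna : ¬ ∀ a b : S, a * b = b * a) (h : Lie.IsoTits S) : Fit.{u, v} S :=
  fit_of_spor T hna (g := .tits) (by decide) h

/-- the sporadic groups -/
theorem fit_sporadic (T : OrderTable.{u}) {S : Type u} [Group S] [Finite S] [IsSimpleGroup S]
    (hna : ¬ ∀ a b : S, a * b = b * a) (h : IsSporadicGroup S) : Fit.{u, v} S := by
  rcases h with h | h | h | h | h | h | h | h | h | h | h | h | h | h | h | h | h | h | h | h | h | h | h | h | h | h
  · exact fit_of_spor T hna (g := .m11) (by decide) h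
  · exact fit_of_spor T hna (g := .m12) (by decide) h
  · exact fit_of_spor T hna (g := .m22) (by decide) h
  · exact fit_of_spor T hna (g := .m23) (by decide) h
  · exact fit_of_spor T hna (g := .m24) (by decide) h
  · exact fit_of_spor T hna (g := .j1) (by decide) h
  · exact fit_of_spor T hna (g := .j2) (by decide) h
  · exact fit_of_spor T hna (g := .j3) (by decide) h
  · exact fit_of_spor T hna (g := .j4) (by decide) h
  · exact fit_of_spor T hna (g := .co1) (by decide) h
  · exact fit_of_spor T hna (g := .co2) (by decide) h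
  · exact fit_of_spor T hna (g := .co3) (by decide) h
  · exact fit_of_spor T hna (g := .mcl) (by decide) h
  · exact fit_of_spor T hna (g := .hs) (by decide) h
  · exact fit_of_spor T hna (g := .suz) (by decide) h
  · exact fit_of_spor T hna (g := .he) (by decide) h
  · exact fit_of_spor T hna (g := .ru) (by decide) h
  · exact fit_of_spor T hna (g := .on) (by decide) h
  · exact fit_of_spor T hna (g := .ly) (by decide) h
  · exact fit_of_spor T hna (g := .fi22) (by decide) h
  · exact fit_of_spor T hna (g := .fi23) (by decide) h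
  · exact fit_of_spor T hna (g := .fi24) (by decide) h
  · exact fit_of_spor T hna (g := .hn) (by decide) h
  · exact fit_of_spor T hna (g := .th) (by decide) h
  · exact fit_of_spor T hna (g := .b) (by decide) h
  · exact fit_of_spor T hna (g := .m) (by decide) h

/-- for `n ≥ 5` there is a prime `p` with `p < n < 2 p` -/
theorem exists_prime_lt_lt {n : ℕ} (hn : 5 ≤ n) : ∃ p : ℕ, p.Prime ∧ p < n ∧ n < 2 * p := by
  rcases Nat.even_or_odd' n with ⟨m, rfl | rfl⟩
  · obtain ⟨p, hp, h1, h2⟩ := Nat.exists_prime_lt_and_le_two_mul m (by omega)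
    refine ⟨p, hp, lt_of_le_of_ne h2 ?_, by omega⟩
    rintro rfl
    have h3 : 2 ∣ 2 * m := ⟨m, rfl⟩
    have h4 := (Nat.prime_dvd_prime_iff_eq Nat.prime_two hp).1 h3
    omega
  · obtain ⟨p, hp, h1, h2⟩ := Nat.exists_prime_lt_and_le_two_mul m (by omega)
    exact ⟨p, hp, by omega, by omega⟩

/-- **Alternating groups.** -/
theorem fit_alternating {S : Type u} [Group S] [Finite S] [IsSimpleGroup S] (hna : ¬ ∀ a b : S, a * b = b * a)
    {n : ℕ} (hn : 5 ≤ n) (e : S ≃* ↥(alternatingGroup (Fin n))) : Fit.{u, v} S := by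
  obtain ⟨p, hp, h1, h2⟩ := exists_prime_lt_lt hn
  have hc := alt_card hn e
  have hp3 : 3 ≤ p := by omega
  have hp2 : ¬ p ∣ 2 := fun h => by
    have := Nat.le_of_dvd (by norm_num) h
    omega
  refine fit_of_order hna hp ?_ ?_ ?_
  · have h3 : p ∣ 2 * Nat.card S := by
      rw [← hc]
      exact (hp.dvd_factorial).2 h1.le
    exact (hp.dvd_mul.1 h3).resolve_left hp2
  · intro h
    have h3 : p ^ 2 ∣ n.factorial := by
      rw [hc]
      exact h.mul_left 2
    have hlog : Nat.log p n < 2 := Nat.log_lt_of_lt_pow (by omega) (by nlinarith)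
    rw [hp.pow_dvd_factorial_iff hlog] at h3
    have h4 : n / p < 2 := (Nat.div_lt_iff_lt_mul hp.pos).2 h2
    simp only [Nat.Ico_succ_singleton, Finset.sum_singleton, pow_one] at h3
    omega
  · intro h
    have h3 := Nat.le_of_dvd (Nat.factorial_pos p) h
    have h4 : p.factorial ≤ (n - 1).factorial := Nat.factorial_le (by omega)
    have h5 : n.factorial = n * (n - 1).factorial := by
      obtain ⟨k, rfl⟩ : ∃ k, n = k + 1 := ⟨n - 1, by omega⟩
      rw [Nat.factorial_succ]
      rfl
    have h6 := Nat.factorial_pos (n - 1)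
    nlinarith

end Cfsg.Agent.H622.CT
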