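import Cfsg.Agent.H622.CT.AltSpor
import Cfsg.Agent.OddRank.SzTits
import Cfsg.Agent.S0262
import Cfsg.Agent.SmallSimple.PSLTwoPart
import Cfsg.Agent.LieExceptional.CITPsl

/-!
# `Fit` for the Suzuki groups and for `PSL₂(q)`
-/

set_option autoImplicit false

namespace Cfsg.Agent.H622.CT

open Cfsg Cfsg.Agent.OrdDiv Cfsg.Agent.H682.CT Matrix

universe u v

/-- an odd number `> 1` has an odd prime divisor -/
theorem exists_odd_prime {n : ℕ} (h1 : 1 < n) (ho : ¬ 2 ∣ n) : ∃ p : ℕ, p.Prime ∧ p ≠ 2 ∧ p ∣ n := by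
  obtain ⟨p, hp, hd⟩ := Nat.exists_prime_and_dvd h1.ne'
  exact ⟨p, hp, fun h => ho (h ▸ hd), hd⟩

/-- **Suzuki groups.** -/
theorem fit_sz (T : OrderTable.{u}) {S : Type u} [Group S] [Finite S] [IsSimpleGroup S]
    (hna : ¬ ∀ a b : S, a * b = b * a) (h : Lie.IsoSuzuki S) : Fit.{u, v} S := by
  have hc : ∀ p : ℕ, p.Prime → p ≠ 2 → ∀ P : Sylow p S, IsCyclic P := fun p hp hp2 P => by
    have : Fact p.Prime := ⟨hp⟩
    exact OddRank.SzTits.isCyclic_of_isPGroup h hp2 P P.isPGroup'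
  obtain ⟨F, _, _, m, hm, hF, ⟨e⟩⟩ := h
  have hcard : Nat.card S = (2 ^ (2 * m + 1)) ^ 2 * (2 ^ (2 * m + 1) - 1) * ((2 ^ (2 * m + 1)) ^ 2 + 1) := by
    rw [Nat.card_congr e.toEquiv, T.sz F m hm hF]
  obtain ⟨q, hq⟩ : ∃ q, q = 2 ^ (2 * m + 1) := ⟨_, rfl⟩
  rw [← hq] at hcard
  have h8 : 8 ≤ q := by
    rw [hq]
    calc 8 = 2 ^ 3 := by norm_num
      _ ≤ 2 ^ (2 * m + 1) := Nat.pow_le_pow_right (by norm_num) (by omega)
  have h2 : 2 ∣ q := by
    rw [hq]
    exact dvd_pow_self 2 (by omega)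
  obtain ⟨p₁, hp₁, hp₁2, hd₁⟩ := exists_odd_prime (n := q - 1) (by omega) (by omega)
  obtain ⟨p₂, hp₂, hp₂2, hd₂⟩ := exists_odd_prime (n := q ^ 2 + 1) (by nlinarith) (by
    intro h
    have h3 : 2 ∣ q ^ 2 := dvd_pow h2 (by norm_num)
    omega)
  refine fit_of_two hna hp₁ hp₂ ?_ ?_ ?_ (hc p₁ hp₁ hp₁2) (hc p₂ hp₂ hp₂2)
  · rintro rfl
    have h3 : p₁ ∣ (q - 1) * (q + 1) + 2 := by
      have : (q - 1) * (q + 1) + 2 = q ^ 2 + 1 := by
        obtain ⟨k, rfl⟩ : ∃ k, q = k + 1 := ⟨q - 1, by omega⟩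
        rw [Nat.add_sub_cancel]
        ring
      rwa [this]
    have h4 : p₁ ∣ 2 := (Nat.dvd_add_right (hd₁.mul_right _)).1 h3
    exact hp₁2 ((Nat.prime_dvd_prime_iff_eq hp₁ Nat.prime_two).1 h4)
  · rw [hcard]
    exact (hd₁.mul_left _).mul_right _
  · rw [hcard]
    exact hd₂.mul_left _

variable {F : Type} [Field F] [Fintype F]

/-- the Sylow subgroups of `PSL₂(q)` for odd primes not dividing `q` are cyclic -/
theorem isCyclic_psl {S : Type u} [Group S] [Finite S] (e : S ≃* ProjectiveSpecialLinearGroup (Fin 2) F)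
    {r : ℕ} (hr : r.Prime) (hr2 : r ≠ 2) (hrF : ¬ r ∣ Fintype.card F) (P : Sylow r S) : IsCyclic P := by
  have : Fact r.Prime := ⟨hr⟩
  obtain ⟨p, hchar⟩ := CharP.exists F
  have hp : p.Prime := CharP.char_is_prime F p
  have : Fact p.Prime := ⟨hp⟩
  have hne : r ≠ p := by
    rintro rfl
    apply hrF
    obtain ⟨n, hn⟩ := FiniteField.card F r
    rw [hn.2]
    exact dvd_pow_self r n.ne_zero
  let f : SpecialLinearGroup (Fin 2) F →* S := e.symm.toMonoidHom.comp (QuotientGroup.mk' _)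
  have hf : Function.Surjective f := e.symm.surjective.comp (QuotientGroup.mk'_surjective _)
  obtain ⟨R, hR⟩ := Sylow.mapSurjective_surjective hf r P
  have hc := S0262.isCyclic_of_isPGroup p r hr2 hne (R : Subgroup (SpecialLinearGroup (Fin 2) F)) R.isPGroup'
  rw [← hR]
  have h1 : ((R.mapSurjective hf : Sylow r S) : Subgroup S) =
      (R : Subgroup (SpecialLinearGroup (Fin 2) F)).map f := Sylow.coe_mapSurjective hf R
  have h2 : IsCyclic ((R : Subgroup (SpecialLinearGroup (Fin 2) F)).map f) :=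
    isCyclic_of_surjective (f.subgroupMap (R : Subgroup (SpecialLinearGroup (Fin 2) F)))
      (f.subgroupMap_surjective _)
  rw [← h1] at h2
  exact h2

theorem card_psl {S : Type u} [Group S] (e : S ≃* ProjectiveSpecialLinearGroup (Fin 2) F) :
    ∃ d, (d = 1 ∨ d = 2) ∧ (Odd (Fintype.card F) → d = 2) ∧
      d * Nat.card S = Fintype.card F * (Fintype.card F ^ 2 - 1) := by
  rw [Nat.card_congr e.toEquiv]
  rcases Nat.even_or_odd (Fintype.card F) with h | h
  · exact ⟨1, Or.inl rfl, fun h' => absurd h (Nat.not_even_iff_odd.2 h'), by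
      rw [one_mul, SmallSimple.PSLTwoPart.card_psl_two_even h]⟩
  · exact ⟨2, Or.inr rfl, fun _ => rfl, SmallSimple.PSLTwoPart.card_psl_two_odd h⟩

/-- a number without odd prime divisors is a power of two -/
theorem eq_two_pow {n : ℕ} (h0 : n ≠ 0) (h : ¬ ∃ p : ℕ, p.Prime ∧ p ≠ 2 ∧ p ∣ n) : ∃ a, n = 2 ^ a :=
  ⟨n.primeFactorsList.length, Nat.eq_prime_pow_of_unique_prime_dvd h0 fun {d} hd hdn => by
    by_contra h2
    exact h ⟨d, hd, h2, hdn⟩⟩

/-- a prime divisor of `q ∓ 1`, odd -/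
theorem dvd_card {S : Type u} [Group S] [Finite S] (e : S ≃* ProjectiveSpecialLinearGroup (Fin 2) F)
    {p : ℕ} (hp : p.Prime) (hp2 : p ≠ 2) (hd : p ∣ Fintype.card F * (Fintype.card F ^ 2 - 1)) :
    p ∣ Nat.card S := by
  obtain ⟨d, hd1, -, hc⟩ := card_psl e
  rw [← hc] at hd
  refine (hp.dvd_mul.1 hd).resolve_left fun h => ?_
  have h1 : p ∣ 2 := by
    rcases hd1 with rfl | rfl
    · exact absurd (Nat.dvd_one.1 h) hp.one_lt.ne'
    · exact h
  exact hp2 ((Nat.prime_dvd_prime_iff_eq hp Nat.prime_two).1 h1)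

/-- **`PSL₂(q)`**, `q ≥ 4`. -/
theorem fit_psl2 {S : Type u} [Group S] [Finite S] [IsSimpleGroup S] (hna : ¬ ∀ a b : S, a * b = b * a)
    (h4 : 4 ≤ Fintype.card F) (e : S ≃* ProjectiveSpecialLinearGroup (Fin 2) F) : Fit.{u, v} S := by
  obtain ⟨q, hq⟩ : ∃ q, q = Fintype.card F := ⟨_, rfl⟩
  have h4' : 4 ≤ q := by omega
  have hsq : q ^ 2 - 1 = (q - 1) * (q + 1) := by
    obtain ⟨k, rfl⟩ : ∃ k, q = k + 1 := ⟨q - 1, by omega⟩
    rw [Nat.add_sub_cancel]
    have : (k + 1) ^ 2 = k * (k + 1 + 1) + 1 := by ring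
    omega
  -- odd prime divisors of `q - 1` and `q + 1`
  have hm : ∀ p : ℕ, p.Prime → p ≠ 2 → p ∣ q - 1 → p ∣ Nat.card S ∧ ∀ P : Sylow p S, IsCyclic P := by
    intro p hp hp2 hd
    refine ⟨dvd_card e hp hp2 ?_, fun P => isCyclic_psl e hp hp2 ?_ P⟩
    · rw [← hq, hsq]
      exact (hd.mul_right _).mul_left _
    · rw [← hq]
      intro h
      have h1 : p ∣ q - (q - 1) := Nat.dvd_sub h hd
      rw [show q - (q - 1) = 1 by omega] at h1
      exact hp.one_lt.ne' (Nat.dvd_one.1 h1)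
  have hpl : ∀ p : ℕ, p.Prime → p ≠ 2 → p ∣ q + 1 → p ∣ Nat.card S ∧ ∀ P : Sylow p S, IsCyclic P := by
    intro p hp hp2 hd
    refine ⟨dvd_card e hp hp2 ?_, fun P => isCyclic_psl e hp hp2 ?_ P⟩
    · rw [← hq, hsq]
      exact (hd.mul_left _).mul_left _
    · rw [← hq]
      intro h
      have h1 : p ∣ q + 1 - q := Nat.dvd_sub hd h
      rw [show q + 1 - q = 1 by omega] at h1
      exact hp.one_lt.ne' (Nat.dvd_one.1 h1)
  -- the case of a prime `q`
  have hprime : q.Prime → q ≠ 2 → q ∣ Nat.card S ∧ ∀ P : Sylow q S, IsCyclic P := by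
    intro hp hp2
    obtain ⟨d, hd1, -, hc⟩ := card_psl e
    rw [← hq] at hc
    refine ⟨dvd_card e hp hp2 (by rw [← hq]; exact dvd_mul_right _ _), fun P => ?_⟩
    refine cyclic_of_factorization_le_one hp ?_ P
    by_contra hlt
    have h1 : q ^ 2 ∣ Nat.card S := (hp.pow_dvd_iff_le_factorization Nat.card_pos.ne').2 (by omega)
    have h2 : q * q ∣ q * (q ^ 2 - 1) := by
      rw [← hc, ← pow_two]
      exact h1.mul_left _
    have h3 : q ∣ q ^ 2 - 1 := Nat.dvd_of_mul_dvd_mul_left hp.pos h2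
    have h5 : q ∣ q ^ 2 := dvd_pow_self q (by norm_num)
    have h6 : q ∣ q ^ 2 - (q ^ 2 - 1) := Nat.dvd_sub h5 h3
    rw [show q ^ 2 - (q ^ 2 - 1) = 1 by
      have : 0 < q ^ 2 := by positivity
      omega] at h6
    exact hp.one_lt.ne' (Nat.dvd_one.1 h6)
  -- prime powers
  obtain ⟨p, hchar⟩ := CharP.exists F
  have hp : p.Prime := CharP.char_is_prime F p
  obtain ⟨n, -, hn⟩ := FiniteField.card F p
  rw [← hq] at hn
  by_cases hA : ∃ r : ℕ, r.Prime ∧ r ≠ 2 ∧ r ∣ q - 1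
  · obtain ⟨r, hr, hr2, hrd⟩ := hA
    obtain ⟨h1, h2⟩ := hm r hr hr2 hrd
    by_cases hB : ∃ r : ℕ, r.Prime ∧ r ≠ 2 ∧ r ∣ q + 1
    · obtain ⟨s, hs, hs2, hsd⟩ := hB
      obtain ⟨h3, h4⟩ := hpl s hs hs2 hsd
      refine fit_of_two hna hr hs ?_ h1 h3 h2 h4
      rintro rfl
      have h5 : r ∣ q + 1 - (q - 1) := Nat.dvd_sub hsd hrd
      rw [show q + 1 - (q - 1) = 2 by omega] at h5
      exact hr2 ((Nat.prime_dvd_prime_iff_eq hr Nat.prime_two).1 h5)
    · -- Mersenne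
      obtain ⟨a, ha⟩ := eq_two_pow (by omega) hB
      have ha0 : a ≠ 0 := by
        rintro rfl
        rw [pow_zero] at ha
        omega
      have hodd : Odd q := by
        have h5 : 2 ∣ q + 1 := by
          rw [ha]
          exact dvd_pow_self 2 ha0
        rcases Nat.even_or_odd q with h6 | h6
        · have := even_iff_two_dvd.1 h6
          omega
        · exact h6
      have hpodd : Odd p := by
        rw [hn] at hodd
        exact (Nat.odd_pow_iff n.ne_zero).1 hodd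
      have hn1 := LieExceptional.CITPsl.mersenne_exponent hp.one_lt hpodd n.ne_zero (hn ▸ ha)
      have hqp : q = p := by rw [hn, hn1, pow_one]
      have hqP : q.Prime := by rw [hqp]; exact hp
      obtain ⟨h3, h5⟩ := hprime hqP (by omega)
      refine fit_of_two hna hqP hr ?_ h3 h1 h5 h2
      rintro rfl
      have := Nat.le_of_dvd (by omega) hrd
      omega
  · obtain ⟨a, ha⟩ := eq_two_pow (by omega) hA
    have ha1 : 1 < a := by
      by_contra hlt
      have : a = 0 ∨ a = 1 := by omega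
      rcases this with rfl | rfl <;> omega
    have hodd : Odd q := by
      have h5 : 2 ∣ q - 1 := by
        rw [ha]
        exact dvd_pow_self 2 (by omega)
      rcases Nat.even_or_odd q with h6 | h6
      · have := even_iff_two_dvd.1 h6
        omega
      · exact h6
    have hpodd : Odd p := by
      rw [hn] at hodd
      exact (Nat.odd_pow_iff n.ne_zero).1 hodd
    -- an odd prime divisor of `q + 1`
    obtain ⟨b, rfl⟩ : ∃ b, a = b + 2 := ⟨a - 2, by omega⟩
    have hq' : q + 1 = 2 * (2 * 2 ^ b + 1) := by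
      have : 2 ^ (b + 2) = 4 * 2 ^ b := by ring
      omega
    obtain ⟨s, hs, hs2, hsd⟩ := exists_odd_prime (n := 2 * 2 ^ b + 1) (by have := Nat.pos_of_ne_zero (pow_ne_zero b (two_ne_zero (α := ℕ))); omega) (by omega)
    obtain ⟨h3, h5⟩ := hpl s hs hs2 (by rw [hq']; exact hsd.mul_left 2)
    rcases LieExceptional.CITPsl.fermat_exponent (k := b + 2) hp.one_lt hpodd n.ne_zero (by rw [← hn]; omega) with
      hn1 | h9
    · have hqp : q = p := by rw [hn, hn1, pow_one]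
      have hqP : q.Prime := by rw [hqp]; exact hp
      obtain ⟨h6, h7⟩ := hprime hqP (by omega)
      refine fit_of_two hna hqP hs ?_ h6 h3 h7 h5
      rintro rfl
      have := Nat.le_of_dvd (by omega) hsd
      omega
    · rw [← hn] at h9
      have hc : Nat.card S = 360 := by
        obtain ⟨d, -, hd2, hc⟩ := card_psl e
        rw [hd2 (by rwa [← hq]), ← hq, h9] at hc
        omega
      exact fit_of_chk hna hc (p := 5) (by decide +kernel)

end Cfsg.Agent.H622.CT
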